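import Groth.Prelude.Def_AlgEqCyc
import Groth.Agent.QCoh.Sections
import Mathlib.AlgebraicGeometry.FunctionField
import Mathlib.RingTheory.Length

/-! The member of the family given by a graph over a curve is the image point. -/

set_option autoImplicit false
set_option linter.unusedSectionVars false
set_option backward.isDefEq.respectTransparency false
set_option backward.isDefEq.respectTransparency.types false

universe u

open CategoryTheory CategoryTheory.Limits AlgebraicGeometry

noncomputable section

namespace Groth.Agent.AlgEqLib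

variable {P C : Scheme.{u}} [IsIntegral C] (g : C ⟶ P) [IsClosedImmersion g] (π : P ⟶ C)

theorem ker_specMap_eq (c : C) (h : g (genericPoint C) ⤳ g c) :
    RingHom.ker (Cyc.specMap (g c) (g (genericPoint C)) h) = RingHom.ker (g.stalkMap c).hom := by
  let hs : genericPoint C ⤳ c := genericPoint_specializes c
  let φ : C.presheaf.stalk c →+* C.residueField (genericPoint C) :=
    (C.presheaf.stalkSpecializes hs ≫ C.residue (genericPoint C)).hom
  have hφ : Function.Injective φ := by
    have h1 : Function.Injective (C.residue (genericPoint C)).hom :=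
      RingHom.injective (R := C.functionField) (C.residue (genericPoint C)).hom
    have h2 : Function.Injective (C.presheaf.stalkSpecializes hs).hom :=
      IsFractionRing.injective (C.presheaf.stalk c) C.functionField
    exact h1.comp h2
  have hcomm : φ.comp (g.stalkMap c).hom =
      (g.residueFieldMap (genericPoint C)).hom.comp (Cyc.specMap (g c) (g (genericPoint C)) h) := by
    rw [Cyc.specMap, ← CommRingCat.hom_comp, ← CommRingCat.hom_comp]
    congr 1
    rw [Category.assoc, Scheme.residue_residueFieldMap, ← Category.assoc, ← Category.assoc]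
    congr 1
    exact (Scheme.Hom.stalkSpecializes_stalkMap g _ _ hs).symm
  ext x
  simp only [RingHom.mem_ker]
  constructor
  · intro hx
    refine hφ ((RingHom.congr_fun hcomm x).trans ?_)
    rw [RingHom.comp_apply, hx, map_zero, map_zero]
  · intro hx
    refine (g.residueFieldMap (genericPoint C)).hom.injective ((RingHom.congr_fun hcomm x).symm.trans ?_)
    rw [RingHom.comp_apply, hx, map_zero, map_zero]

/-- The multiplicity of a graph in the fibre over a point of the base curve is one. -/
theorem fibreMult_graph (hgπ : g ≫ π = 𝟙 C) (c : C) (h : g (genericPoint C) ⤳ g c) :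
    AlgEqCyc.fibreMult π (g c) (g (genericPoint C)) h = 1 := by
  have hiso : IsIso (π.stalkMap (g c) ≫ g.stalkMap c) := by
    rw [← Scheme.Hom.stalkMap_comp, Scheme.Hom.stalkMap_congr_hom _ _ hgπ, Scheme.Hom.stalkMap_id]
    exact IsIso.comp_isIso' inferInstance (IsIso.id _)
  have hu : Function.Bijective (fun x => g.stalkMap c (π.stalkMap (g c) x)) :=
    (ConcreteCategory.isIso_iff_bijective _).1 hiso
  let K : Ideal (P.presheaf.stalk (g c)) := RingHom.ker (Cyc.specMap (g c) (g (genericPoint C)) h)
  let I : Ideal (Cyc.LocQuot (g c) (g (genericPoint C)) h) :=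
    (IsLocalRing.maximalIdeal (C.presheaf.stalk (π (g c)))).map
      ((Ideal.Quotient.mk (RingHom.ker (Cyc.specMap (g c) (g (genericPoint C)) h))).comp (π.stalkMap (g c)).hom)
  let J : Ideal (P.presheaf.stalk (g c)) := I.comap (Ideal.Quotient.mk K)
  have hJ : J = IsLocalRing.maximalIdeal (P.presheaf.stalk (g c)) := by
    apply le_antisymm
    · have hK : K ≤ IsLocalRing.maximalIdeal _ := IsLocalRing.le_maximalIdeal (RingHom.ker_ne_top _)
      refine (Ideal.comap_mono (?_ : I ≤ (IsLocalRing.maximalIdeal _).map (Ideal.Quotient.mk K))).trans ?_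
      · show Ideal.map _ _ ≤ _
        rw [← Ideal.map_map]
        refine Ideal.map_mono (Ideal.map_le_iff_le_comap.2 fun x hx => ?_)
        exact (map_mem_nonunits_iff (π.stalkMap (g c)).hom x).2 hx
      · rw [Ideal.comap_map_of_surjective _ Ideal.Quotient.mk_surjective]
        refine sup_le le_rfl ?_
        rw [← RingHom.ker_eq_comap_bot, Ideal.mk_ker]
        exact hK
    · intro x hx
      have hsx : g.stalkMap c x ∈ IsLocalRing.maximalIdeal (C.presheaf.stalk c) :=
        (map_mem_nonunits_iff (g.stalkMap c).hom x).2 hx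
      obtain ⟨y, hy⟩ := hu.2 (g.stalkMap c x)
      have hym : y ∈ IsLocalRing.maximalIdeal (C.presheaf.stalk (π (g c))) := fun hyu => by
        refine hsx ?_
        rw [← hy]
        exact (hyu.map (π.stalkMap (g c)).hom).map (g.stalkMap c).hom
      have hd : x - π.stalkMap (g c) y ∈ K := by
        show _ ∈ RingHom.ker _
        rw [ker_specMap_eq, RingHom.mem_ker, map_sub, sub_eq_zero]
        exact hy.symm
      show Ideal.Quotient.mk K x ∈ I
      rw [show Ideal.Quotient.mk K x = Ideal.Quotient.mk K (π.stalkMap (g c) y) from Ideal.Quotient.eq.2 hd]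
      exact Ideal.mem_map_of_mem _ hym
  have hlen : Module.length (P.presheaf.stalk (g c)) (Cyc.LocQuot (g c) (g (genericPoint C)) h ⧸ I) = 1 := by
    let f : P.presheaf.stalk (g c) →ₗ[P.presheaf.stalk (g c)] Cyc.LocQuot (g c) (g (genericPoint C)) h ⧸ I :=
      Algebra.linearMap _ _
    have hf : Function.Surjective f := fun q => by
      obtain ⟨q₁, rfl⟩ := Ideal.Quotient.mk_surjective q
      obtain ⟨x, rfl⟩ := Ideal.Quotient.mk_surjective q₁
      exact ⟨x, rfl⟩
    have hker : LinearMap.ker f = J := by
      ext x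
      exact Ideal.Quotient.eq_zero_iff_mem
    rw [← (f.quotKerEquivOfSurjective hf).length_eq, hker, hJ, Module.length_eq_one_iff]
    exact isSimpleModule_iff_isCoatom.2 (IsLocalRing.maximalIdeal.isMaximal _).1
  exact (congrArg ENat.toNat hlen).trans rfl

variable {k : Type u} [Field k] [DecidableEq C] {X : Scheme.{u}} [DecidableEq X]
  (p : X ⟶ Spec (CommRingCat.of k)) (q : C ⟶ Spec (CommRingCat.of k))
  (ι : C ⟶ X) [IsClosedImmersion ι] (hι : ι ≫ p = q)

include hι in
/-- The difference of two rational points of a smooth projective curve in `X` is elementary algebraically trivial. -/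
theorem isElemAlgTriv_single_sub_single (hs : Smooth q) (hp : Neron.IsProjectiveOver k (Over.mk q))
    (hd : topologicalKrullDim C = 1) [IsSeparated q]
    (P₁ P₂ : Spec (CommRingCat.of k) ⟶ C) (h₁ : P₁ ≫ q = 𝟙 _) (h₂ : P₂ ≫ q = 𝟙 _) :
    AlgEqCyc.IsElemAlgTriv p
      (Function.locallyFinsuppWithin.single (ι (P₁ (IsLocalRing.closedPoint k))) (1 : ℤ) -
        Function.locallyFinsuppWithin.single (ι (P₂ (IsLocalRing.closedPoint k))) (1 : ℤ)) := by
  classical
  let γ : C ⟶ pullback p q := pullback.lift ι (𝟙 C) (hι.trans (Category.id_comp q).symm)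
  haveI : IsClosedImmersion (γ ≫ pullback.fst p q) := by rw [pullback.lift_fst]; infer_instance
  haveI : IsClosedImmersion γ := IsClosedImmersion.of_comp γ (pullback.fst p q)
  let w₀ := γ (genericPoint C)
  let W : AlgebraicCycle (pullback p q) ℤ := Function.locallyFinsuppWithin.single w₀ 1
  have hW : ∀ w, W w ≠ 0 → w = w₀ := fun w hw => by
    by_contra hne
    exact hw (by simp [W, hne])
  have key : ∀ (t : Spec (CommRingCat.of k) ⟶ C) (ht : t ≫ q = 𝟙 _) (x : X),
      AlgEqCyc.fibreFun p q W t ht x = if x = ι (t (IsLocalRing.closedPoint k)) then 1 else 0 := by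
    intro t ht x
    let c := t (IsLocalRing.closedPoint k)
    have e1 : pullback.fst p q (AlgEqCyc.slice p q t ht x) = x := by
      rw [← Scheme.Hom.comp_apply, AlgEqCyc.slice, pullback.lift_fst]; rfl
    have e2 : pullback.snd p q (AlgEqCyc.slice p q t ht x) = c := by
      rw [← Scheme.Hom.comp_apply, AlgEqCyc.slice, pullback.lift_snd]
      exact congrArg t (Subsingleton.elim (α := PrimeSpectrum k) _ _)
    have e3 : ∀ a : C, pullback.fst p q (γ a) = ι a := fun a => by
      rw [← Scheme.Hom.comp_apply, pullback.lift_fst]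
    have e4 : ∀ a : C, pullback.snd p q (γ a) = a := fun a => by
      rw [← Scheme.Hom.comp_apply, pullback.lift_snd]; rfl
    have hmem : w₀ ⤳ AlgEqCyc.slice p q t ht x → AlgEqCyc.slice p q t ht x = γ c := fun hsp => by
      obtain ⟨a, ha⟩ := hsp.mem_closed γ.isClosedEmbedding.isClosed_range ⟨_, rfl⟩
      have : c = a := by rw [← e2, ← ha, e4]
      rw [← ha, this]
    unfold AlgEqCyc.fibreFun
    by_cases hx : x = ι c
    · rw [if_pos hx]
      have hsl : AlgEqCyc.slice p q t ht x = γ c := by
        subst hx
        have e : t ≫ ι ≫ AlgEqCyc.slice p q t ht = t ≫ γ := by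
          apply pullback.hom_ext
          · simp [AlgEqCyc.slice, γ]
          · simp [AlgEqCyc.slice, γ, reassoc_of% hι, reassoc_of% ht]
        exact congrArg (fun f => f (IsLocalRing.closedPoint k)) e
      have hsp : w₀ ⤳ AlgEqCyc.slice p q t ht x := hsl ▸ (genericPoint_specializes c).map γ.continuous
      let w : {w // W w ≠ 0 ∧ w ⤳ AlgEqCyc.slice p q t ht x} := ⟨w₀, by simp [W], hsp⟩
      rw [finsum_eq_single _ w fun v hv => absurd (Subtype.ext (hW v.1 v.2.1)) hv]
      show W w₀ * (AlgEqCyc.fibreMult (pullback.snd p q) (AlgEqCyc.slice p q t ht x) w₀ hsp : ℤ) = 1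
      rw [show W w₀ = 1 by simp [W], one_mul]
      have h1 : ∀ v (hv : w₀ ⤳ v), v = γ c → AlgEqCyc.fibreMult (pullback.snd p q) v w₀ hv = 1 := by
        rintro v hv rfl
        exact fibreMult_graph γ (pullback.snd p q) (pullback.lift_snd _ _ _) c hv
      rw [h1 _ hsp hsl]
      rfl
    · rw [if_neg hx]
      haveI : IsEmpty {w // W w ≠ 0 ∧ w ⤳ AlgEqCyc.slice p q t ht x} := ⟨fun v => hx (by
        have h := hmem (hW v.1 v.2.1 ▸ v.2.2)
        rw [← e1, h, e3])⟩
      exact finsum_of_isEmpty _
  refine ⟨C, q, hs, hp, inferInstance, hd, W, fun w hw => ?_, P₁, P₂, h₁, h₂, fun x => ?_⟩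
  · rw [hW w hw]
    show closure {pullback.snd p q (γ (genericPoint C))} = _
    rw [← Scheme.Hom.comp_apply, pullback.lift_snd]
    exact genericPoint_closure C
  · rw [key, key]
    simp [Pi.single_apply]

end Groth.Agent.AlgEqLib
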